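import Groth.Agent.SurfProj.Sections
import Groth.Agent.VarDim.Scheme
import Groth.Agent.VarBC.Dim
import Groth.Agent.IntProd70.Rules
import Groth.Agent.IdealSh.CodimOne
import Groth.Agent.WeakAssSch.Unit
import Groth.Agent.RegLoc.UFD
import Groth.Agent.RedSub.Basic
import Groth.Agent.CohDev.Coh
import Groth.Agent.LangWeil.Dim
import Mathlib.RingTheory.Ideal.KrullsHeightTheorem

/-!
# Points and curves on a regular surface
-/

set_option autoImplicit false
set_option linter.style.haveILetI false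

universe u

open CategoryTheory Limits AlgebraicGeometry Opposite TopologicalSpace

noncomputable section

namespace Groth.Agent.SurfProj

variable (k : Type u) [Field k] {X : Scheme.{u}} [X.Over (Spec (CommRingCat.of k))]
  [IsProper (X ↘ Spec (CommRingCat.of k))]

open VarDim

/-- A regular proper surface. -/
structure RegSurf : Prop where
  reg : ∀ x : X, IsRegularLocalRing (X.presheaf.stalk x)
  two : ∀ y : X, ∃ η : X, η ⤳ y ∧ dimPt k X η = 2
  le_two : ∀ y : X, dimPt k X y ≤ 2

theorem RegSurf.mk' (hreg : ∀ x : X, IsRegularLocalRing (X.presheaf.stalk x))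
    (hdim : ∀ Z ∈ irreducibleComponents (X : Type u), topologicalKrullDim Z = 2) : RegSurf k (X := X) := by
  have hpts : ∀ y : X, ∃ η : X, η ⤳ y ∧ dimPt k X η = 2 := fun y => by
    obtain ⟨η, hη⟩ := QuasiSober.sober isIrreducible_irreducibleComponent
      (isClosed_irreducibleComponent (x := y))
    refine ⟨η, hη.specializes mem_irreducibleComponent, ?_⟩
    have h := hdim _ (irreducibleComponent_mem_irreducibleComponents y)
    rw [← hη.def, VarBC.Dim.topDim_closure k η] at h
    exact_mod_cast h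
  exact ⟨hreg, hpts, fun y => by
    obtain ⟨η, h1, h2⟩ := hpts y
    exact h2 ▸ (exists_ltSeries_of_le k (h1 : y ≤ η)).1⟩

variable {k} (hX : RegSurf k (X := X))

include hX

omit [IsProper (X ↘ Spec (CommRingCat.of k))] in
theorem RegSurf.isDomain (x : X) : IsDomain (X.presheaf.stalk x) :=
  haveI := hX.reg x
  RegLoc.isDomain _

omit [IsProper (X ↘ Spec (CommRingCat.of k))] in
theorem RegSurf.isReduced : IsReduced X := by
  haveI : ∀ x : X, _root_.IsReduced (X.presheaf.stalk x) := fun x =>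
    haveI := hX.isDomain x
    inferInstance
  exact isReduced_of_isReduced_stalk X

theorem RegSurf.dimPt_lt {y z : X} (h : z ⤳ y) (hne : y ≠ z) : dimPt k X y < dimPt k X z :=
  strictMono_dimPt k (lt_iff_le_not_ge.2 ⟨h, fun h' => hne (Inseparable.eq ((h' : y ⤳ z).antisymm h))⟩)

theorem RegSurf.eq_of_two_specializes {y z : X} (h : z ⤳ y) (hy : dimPt k X y = 2) : y = z := by
  by_contra hne
  have := hX.dimPt_lt h hne
  have := hX.le_two z
  omega

theorem RegSurf.unique_two {y a b : X} (ha : a ⤳ y) (hb : b ⤳ y) (ha2 : dimPt k X a = 2)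
    (hb2 : dimPt k X b = 2) : a = b := by
  haveI := hX.isDomain y
  have key : ∀ z : X, z ⤳ y → dimPt k X z = 2 → z = X.fromSpecStalk y (⊥ : PrimeSpectrum (X.presheaf.stalk y)) := fun z hz hz2 => by
    have hz' : z ∈ Set.range (X.fromSpecStalk y) := by rw [Scheme.range_fromSpecStalk]; exact hz
    obtain ⟨p, rfl⟩ := hz'
    exact hX.eq_of_two_specializes
      (((PrimeSpectrum.le_iff_specializes (⊥ : PrimeSpectrum (X.presheaf.stalk y)) p).mp bot_le).map (X.fromSpecStalk y).continuous) hz2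
  rw [key a ha ha2, key b hb hb2]

theorem RegSurf.mem_of_dense {U : X.Opens} (hU : Dense (U : Set X)) {η : X} (hη : dimPt k X η = 2) :
    η ∈ U := by
  haveI := EulerChar.isNoetherian k (X := X)
  have hfin : (irreducibleComponents (X : Type u)).Finite := NoetherianSpace.finite_irreducibleComponents
  let C := ⋃ Z ∈ {Z ∈ irreducibleComponents (X : Type u) | η ∉ Z}, Z
  have hC : IsClosed C := (hfin.subset fun Z hZ => hZ.1).isClosed_biUnion fun Z hZ =>
    isClosed_of_mem_irreducibleComponents Z hZ.1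
  obtain ⟨w, hwC, hwU⟩ := hU.inter_open_nonempty Cᶜ hC.isOpen_compl
    ⟨η, by simp [C]⟩
  obtain ⟨ζ, hζ⟩ := QuasiSober.sober isIrreducible_irreducibleComponent
    (isClosed_irreducibleComponent (x := w))
  have hηZ : η ∈ irreducibleComponent w := by
    by_contra h
    exact hwC (Set.mem_biUnion (s := {Z ∈ irreducibleComponents (X : Type u) | η ∉ Z}) (t := fun Z => Z)
      ⟨irreducibleComponent_mem_irreducibleComponents w, h⟩ mem_irreducibleComponent)
  have h1 := hX.eq_of_two_specializes (hζ.specializes hηZ) hη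
  exact h1 ▸ (hζ.specializes mem_irreducibleComponent).mem_open U.2 hwU

theorem RegSurf.finite_two : {η : X | dimPt k X η = 2}.Finite := by
  haveI := EulerChar.isNoetherian k (X := X)
  refine (IntProd70.finite_top (d := 2) (T := (Set.univ : Set X)) isClosed_univ ?_).subset fun η hη => ⟨trivial, ?_⟩
  · rw [IsHomeomorph.topologicalKrullDim_eq _ (Homeomorph.Set.univ X).isHomeomorph,
      topologicalKrullDim_eq_iSup k]
    exact iSup_le fun x => by exact_mod_cast hX.le_two x
  · rw [VarBC.Dim.topDim_closure k η, (hη : dimPt k X η = 2)]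

theorem RegSurf.finite_bad {U : X.Opens} (hU : Dense (U : Set X)) :
    {η : X | dimPt k X η = 1 ∧ η ∉ U}.Finite := by
  haveI := EulerChar.isNoetherian k (X := X)
  refine (IntProd70.finite_top (d := 1) (T := (U : Set X)ᶜ) U.2.isClosed_compl ?_).subset
    fun η hη => ⟨hη.2, ?_⟩
  · refine LangWeil.dim_le_of_forall k U.2.isClosed_compl fun z hz => ?_
    have := hX.le_two z
    rcases Nat.lt_or_ge (dimPt k X z) 2 with h | h
    · exact_mod_cast (Nat.le_of_lt_succ h)
    · exact absurd (hX.mem_of_dense hU (le_antisymm this h)) hz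
  · rw [VarBC.Dim.topDim_closure k η, hη.1]

theorem RegSurf.dim_stalk_closed {x : X} (hx : dimPt k X x = 0) : ringKrullDim (X.presheaf.stalk x) = 2 := by
  obtain ⟨η, hxη, hη⟩ := hX.two x
  rw [ringKrullDim_stalk_eq_coheight]
  have hco : Order.coheight x = (2 : ℕ) := by
    refine le_antisymm ?_ ?_
    · refine (coheight_le_of_forall k fun y _ => hX.le_two y).trans ?_
      simp [hx]
    · refine le_trans ?_ (le_coheight k (hxη : x ≤ η))
      simp [hx, hη]
  rw [hco]
  rfl

omit hX [IsProper (X ↘ Spec (CommRingCat.of k))] in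
theorem mem_basicOpen_iff {W : X.Opens} (hW : IsAffineOpen W) (a : Γ(X, W)) {y : X} (hy : y ∈ W) :
    y ∈ X.basicOpen a ↔ a ∉ (hW.primeIdealOf ⟨y, hy⟩).asIdeal := by
  have h := congrArg (fun O : (Spec Γ(X, W)).Opens => hW.primeIdealOf ⟨y, hy⟩ ∈ O)
    (hW.fromSpec_preimage_basicOpen a)
  have e : hW.fromSpec (hW.primeIdealOf ⟨y, hy⟩) = y := hW.fromSpec_primeIdealOf ⟨y, hy⟩
  constructor
  · intro hya
    exact h.mp (show hW.fromSpec (hW.primeIdealOf ⟨y, hy⟩) ∈ X.basicOpen a by rw [e]; exact hya)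
  · intro ha
    have h2 : hW.fromSpec (hW.primeIdealOf ⟨y, hy⟩) ∈ X.basicOpen a := h.mpr ha
    rwa [e] at h2

/-- An equation at a closed point cuts out a curve through it. -/
theorem RegSurf.exists_curve {x : X} (hx : dimPt k X x = 0) {W : X.Opens} (hW : IsAffineOpen W) (hxW : x ∈ W)
    (a : Γ(X, W)) (hxa : x ∉ X.basicOpen a)
    (hgen : ∀ y : X, y ⤳ x → dimPt k X y = 2 → y ∈ X.basicOpen a) :
    ∃ c : X, c ⤳ x ∧ c ∈ W ∧ dimPt k X c = 1 ∧ c ∉ X.basicOpen a := by
  haveI := EulerChar.isNoetherian k (X := X)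
  haveI : IsNoetherianRing Γ(X, W) := IsLocallyNoetherian.component_noetherian ⟨W, hW⟩
  set P := hW.primeIdealOf ⟨x, hxW⟩
  have haP : a ∈ P.asIdeal := by
    by_contra h
    exact hxa ((mem_basicOpen_iff hW a hxW).2 h)
  obtain ⟨p, hp, hpP⟩ := Ideal.exists_minimalPrimes_le ((Ideal.span_singleton_le_iff_mem _).2 haP)
  haveI := hp.1.1
  haveI : (Ideal.span {a}).IsPrincipal := ⟨⟨a, rfl⟩⟩
  have hht : p.height ≤ 1 := Ideal.height_le_one_of_isPrincipal_of_mem_minimalPrimes _ _ hp
  obtain ⟨c, hcW, hc⟩ := exists_eq_primeIdealOf hW ⟨p, hp.1.1⟩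
  have hle : hW.primeIdealOf ⟨c, hcW⟩ ≤ P := by rw [hc]; exact hpP
  have hcx : c ⤳ x := (primeIdealOf_le_iff hW c x hcW hxW).1 hle
  have hca : c ∉ X.basicOpen a := fun h => by
    have := (mem_basicOpen_iff hW a hcW).1 h
    rw [hc] at this
    exact this (hp.1.2 (Ideal.mem_span_singleton_self a))
  refine ⟨c, hcx, hcW, ?_, hca⟩
  have hne : x ≠ c := by
    rintro rfl
    letI := TopCat.Presheaf.algebra_section_stalk X.presheaf (⟨x, hxW⟩ : W)
    haveI := hW.isLocalization_stalk ⟨x, hxW⟩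
    have h2 := hX.dim_stalk_closed hx
    rw [IsLocalization.AtPrime.ringKrullDim_eq_height (hW.primeIdealOf ⟨x, hxW⟩).asIdeal] at h2
    rw [hc] at h2
    have h3 : (p.height : WithBot ℕ∞) ≤ ((1 : ℕ) : WithBot ℕ∞) := by exact_mod_cast hht
    rw [h2] at h3
    have h4 : (2 : ℕ) ≤ 1 := by exact_mod_cast h3
    omega
  have h1 := hX.dimPt_lt hcx hne
  have h2 := hX.le_two c
  have h3 : dimPt k X c ≠ 2 := fun h => hca (hgen c hcx h)
  omega

/-- Every point has a closed specialisation. -/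
theorem RegSurf.exists_closed (y : X) : ∃ x : X, y ⤳ x ∧ dimPt k X x = 0 := by
  obtain ⟨x, hx, -, h0⟩ := exists_le_dimPt_eq_zero k y ⊤ trivial
  exact ⟨x, hx, h0⟩

/-- Through every closed point passes a curve not contained in the complement of `U`. -/
theorem RegSurf.exists_curve_meeting {U : X.Opens} (hU : Dense (U : Set X)) {x : X} (hx : dimPt k X x = 0) :
    ∃ c : X, c ⤳ x ∧ c ∈ U ∧ dimPt k X c = 1 := by
  classical
  haveI := EulerChar.isNoetherian k (X := X)
  obtain ⟨_, ⟨W, hW, rfl⟩, hxW, -⟩ :=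
    X.isBasis_affineOpens.exists_subset_of_mem_open (Set.mem_univ x) isOpen_univ
  replace hW : IsAffineOpen W := hW
  have hB : {z : X | z ⤳ x ∧ z ≠ x ∧ (dimPt k X z = 2 ∨ (dimPt k X z = 1 ∧ z ∉ U))}.Finite :=
    (hX.finite_two.union (hX.finite_bad hU)).subset fun z hz => hz.2.2
  let pr : X → Ideal Γ(X, W) := fun z => if h : z ∈ W then (hW.primeIdealOf ⟨z, h⟩).asIdeal else ⊥
  have hnot : ¬ ((hW.primeIdealOf ⟨x, hxW⟩).asIdeal : Set Γ(X, W)) ⊆ ⋃ z ∈ (hB.toFinset : Set X), (pr z : Set Γ(X, W)) := by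
    rw [Ideal.subset_union_prime x x (fun z hz _ _ => by
      have hzW : z ∈ W := (hB.mem_toFinset.1 hz).1.mem_open W.2 hxW
      simp only [pr, dif_pos hzW]
      exact (hW.primeIdealOf ⟨z, hzW⟩).isPrime)]
    rintro ⟨z, hz, hle⟩
    obtain ⟨hzx, hne, -⟩ := hB.mem_toFinset.1 hz
    have hzW : z ∈ W := hzx.mem_open W.2 hxW
    simp only [pr, dif_pos hzW] at hle
    exact hne (Inseparable.eq (((primeIdealOf_le_iff hW x z hxW hzW).1 hle).antisymm hzx)).symm
  obtain ⟨a, haP, hav⟩ := Set.not_subset.1 hnot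
  have hmem : ∀ z : X, z ⤳ x → z ≠ x → (dimPt k X z = 2 ∨ (dimPt k X z = 1 ∧ z ∉ U)) → z ∈ X.basicOpen a := by
    intro z hzx hne hor
    have hzW : z ∈ W := hzx.mem_open W.2 hxW
    refine (mem_basicOpen_iff hW a hzW).2 fun h => hav ?_
    refine Set.mem_biUnion (hB.mem_toFinset.2 ⟨hzx, hne, hor⟩) ?_
    show a ∈ pr z
    simp only [pr, dif_pos hzW]
    exact h
  obtain ⟨c, hcx, -, hc1, hca⟩ := hX.exists_curve hx hW hxW a
    (fun h => (mem_basicOpen_iff hW a hxW).1 h haP)
    (fun y hy hy2 => hmem y hy (by rintro rfl; omega) (Or.inl hy2))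
  refine ⟨c, hcx, ?_, hc1⟩
  by_contra hcU
  exact hca (hmem c hcx (by rintro rfl; omega) (Or.inr ⟨hc1, hcU⟩))

/-- A function on an affine open vanishing on a curve but not on the surface. -/
theorem RegSurf.exists_vanishing {U : X.Opens} (hUa : IsAffineOpen U) (hU : Dense (U : Set X)) {c ξ : X}
    (hc : c ∈ U) (hc1 : dimPt k X c = 1) (hξ2 : dimPt k X ξ = 2) :
    ∃ h : Γ(X, U), c ∉ X.basicOpen h ∧ ξ ∈ X.basicOpen h := by
  have hξ : ξ ∈ U := hX.mem_of_dense hU hξ2
  have hn : ¬ hUa.primeIdealOf ⟨c, hc⟩ ≤ hUa.primeIdealOf ⟨ξ, hξ⟩ := fun hle => by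
    have h := (primeIdealOf_le_iff hUa c ξ hc hξ).1 hle
    have := hX.eq_of_two_specializes h hξ2
    subst this
    omega
  obtain ⟨h, h1, h2⟩ := Set.not_subset.1 hn
  exact ⟨h, fun hh => (mem_basicOpen_iff hUa h hc).1 hh h1, (mem_basicOpen_iff hUa h hξ).2 h2⟩

/-- Curves are Cartier divisors. -/
theorem RegSurf.isInvertible_curve {η : X} (hη : dimPt k X η = 1) :
    PicF.IsInvertible (ClSub.idealMod (IntMult.ptIdeal η)) := by
  haveI := EulerChar.isNoetherian k (X := X)
  set D := IntMult.ptIdeal η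
  haveI : IsIntegral D.subscheme := S16188.isIntegral_subscheme _ isIrreducible_singleton.closure
  haveI : IsLocallyNoetherian D.subscheme := LocallyOfFiniteType.isLocallyNoetherian D.subschemeι
  refine IdealSh.IdealMod.isInvertible_of_isEffCartierIdeal D
    (IdealSh.CodimOne.isEffCartierIdeal D (fun z hz => ?_) (fun z hz => ?_)
      (fun x _ => ⟨hX.isDomain x, haveI := hX.reg x; RegLoc.UFD.uniqueFactorizationMonoid _⟩))
  · exact (WeakAssSch.isWeakAssPoint_unit_iff_maximal z).mp
      ((WeakAssSch.isWeakAssPoint_unit_iff_isAssociatedPrime z).mpr hz)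
  · obtain rfl : z = genericPoint D.subscheme := (hz _ (genericPoint_specializes z)).symm
    have hgen : D.subschemeι (genericPoint D.subscheme) = η := by
      refine IsGenericPoint.eq ((genericPoint_spec D.subscheme).image D.subschemeι.continuous) ?_
      show closure ({η} : Set X) = _
      rw [Set.image_univ, D.range_subschemeι, (D.support.isClosed).closure_eq]
      exact (CohDev.coe_support_ptIdeal η).symm
    rw [hgen, ringKrullDim_stalk_eq_coheight]
    obtain ⟨ξ, hξ, hξ2⟩ := hX.two η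
    have hco : Order.coheight η = (1 : ℕ) := by
      refine le_antisymm ?_ ?_
      · refine (coheight_le_of_forall k fun y _ => hX.le_two y).trans ?_
        simp [hη]
      · refine le_trans ?_ (le_coheight k (hξ : η ≤ ξ))
        simp [hη, hξ2]
    rw [hco]
    rfl

end Groth.Agent.SurfProj
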