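import Groth.Agent.SurfProj.Process
import Groth.Agent.SurfProj.Points
import Groth.Agent.AmpleFam.Factorial
import Groth.Agent.GrpScheme.DivSection
import Groth.Agent.BigVol.EffAmple
import Groth.Agent.NefPos.Main
import Groth.Agent.S1519
import Groth.Agent.GenAt.Basic
import Groth.Agent.NumTriv.Ample

/-!
# A regular proper surface is projective

The complement of a dense affine open is a union of curves; functions with poles there give an
invertible module of positive degree on every curve with a nonzero section on every integral piece.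
-/

set_option autoImplicit false
set_option linter.style.haveILetI false

universe u

open CategoryTheory Limits AlgebraicGeometry Opposite TopologicalSpace

noncomputable section

namespace Groth.Agent.SurfProj

open Groth.Agent.QCoh Groth.Agent.Props.GenLocus Groth.Agent.Props.GenTensor Groth.Agent.Props.GenProd
  Groth.Agent.AmpleLib Groth.Agent.Props.GenPull

variable {k : Type u} [Field k] {X : Scheme.{u}} [X.Over (Spec (CommRingCat.of k))]
  [IsProper (X ↘ Spec (CommRingCat.of k))]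

theorem le_locus_pw {M : X.Modules} {s : Γ(M, ⊤)} (n : ℕ) : locus s ≤ locus (pw M s n) := by
  refine le_locus le_top ?_
  rw [res_pw]
  exact isGen_pw (isGen_locus s) n

theorem ne_zero_of_mem_locus {M : X.Modules} {σ : Γ(M, ⊤)} {x : X} (hx : x ∈ locus σ) : homOfSec σ ≠ 0 := by
  intro h
  have h1 := sec_homOfSec σ (locus σ)
  rw [h] at h1
  have h2 := isGen_locus σ
  rw [← h1] at h2
  have h3 : (1 : Γ(X, locus σ)) = 0 := by
    refine h2.injective le_rfl ?_
    rw [zero_smul, one_smul, QCoh.res_self]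
    rfl
  have hu : x ∈ X.basicOpen (0 : Γ(X, locus σ)) := by
    rw [← h3, X.basicOpen_of_isUnit isUnit_one]
    exact hx
  rw [X.basicOpen_zero] at hu
  exact hu

theorem mem_locus_pb {Y : Scheme.{u}} (f : Y ⟶ X) {M : X.Modules} (hM : PicF.IsInvertible M) (σ : Γ(M, ⊤)) (y : Y) :
    y ∈ locus (M := (Scheme.Modules.pullback f).obj M) (O := ⊤) (pb f σ) ↔ f y ∈ locus σ :=
  Iff.of_eq (congrArg (fun W : Y.Opens => y ∈ W) (locus_pb f hM σ))

/-- A compatible triple at a pole. -/
theorem RegSurf.exists_good (hX : RegSurf k (X := X)) {U : X.Opens} (hUa : IsAffineOpen U)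
    (hU : Dense (U : Set X)) {M : X.Modules} (hM : PicF.IsInvertible M) {s₀ : Γ(M, ⊤)} (hs₀ : locus s₀ = U)
    (B : Finset X) (hB : ∀ z ∈ B, VarDim.dimPt k X z = 1) {η : X} (hη : η ∈ B) (hηU : η ∉ U) :
    ∃ (L : X.Modules) (s t : Γ(L, ⊤)), PicF.IsInvertible L ∧ U ≤ locus s ∧ η ∉ locus s ∧ η ∈ locus t ∧
      (∃ x : X, η ⤳ x ∧ x ∉ locus t) ∧ ∀ z ∈ B, z ∈ locus s ∨ z ∈ locus t := by
  haveI := EulerChar.isNoetherian k (X := X)
  haveI := hX.isReduced
  haveI : X.IsSeparated := ⟨by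
    rw [show terminal.from X = (X ↘ Spec (CommRingCat.of k)) ≫ terminal.from _ from Subsingleton.elim _ _]
    infer_instance⟩
  have hdom := hX.isDomain
  haveI := hdom η
  have mk : ∀ f : Γ(X, U), ∃ (L : X.Modules) (s t : Γ(L, ⊤)), PicF.IsInvertible L ∧ U ≤ locus s ∧
      Rel f s t ∧ ∀ z ∈ B, z ∈ locus s ∨ z ∈ locus t := fun f => by
    obtain ⟨n, t, ht⟩ := exists_extend hM s₀ hs₀ hU f
    obtain ⟨L, s', t', hL, hsU, hst, -, -, hor⟩ := exists_clear hdom hU B
      (fun z hz => hX.isInvertible_curve (hB z hz)) (AmpleLib.isInvertible_tensorPow hM n) (pw M s₀ n) t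
      (hs₀.ge.trans (le_locus_pw n)) ht
    exact ⟨L, s', t', hL, hsU, hst, hor⟩
  obtain ⟨g, hg⟩ := exists_pole k hUa hU hηU
  obtain ⟨L₁, s₁, t₁, hL₁, -, hst₁, hor₁⟩ := mk g
  have hs₁ := hg.not_mem_locus hst₁
  have ht₁ := (hor₁ η hη).resolve_left hs₁
  obtain ⟨x, hηx, hx0⟩ := hX.exists_closed η
  obtain ⟨c, hcx, hcU, hc1⟩ := hX.exists_curve_meeting hU hx0
  obtain ⟨ξ, hξη, hξ2⟩ := hX.two η
  obtain ⟨h, hch, hξh⟩ := hX.exists_vanishing hUa hU hcU hc1 hξ2
  obtain ⟨N, hN⟩ := exists_pole_mul_pow hU hξη (g := g) hξh hL₁ hst₁ hs₁ ht₁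
  obtain ⟨L, s, t, hL, hsU, hst, hor⟩ := mk (h * g ^ N)
  have hs := hN.not_mem_locus hst
  refine ⟨L, s, t, hL, hsU, hs, (hor η hη).resolve_left hs, ⟨x, hηx, fun hxt => ?_⟩, hor⟩
  have hc : c ∈ locus t ⊓ U := ⟨hcx.mem_open (locus t).2 hxt, hcU⟩
  rw [hst.locus_inf hL hsU, X.basicOpen_mul] at hc
  exact hch hc.1

/-- The module with positive degree on the boundary. -/
theorem RegSurf.exists_sum (hX : RegSurf k (X := X)) {U : X.Opens} (hUa : IsAffineOpen U)
    (hU : Dense (U : Set X)) {M : X.Modules} (hM : PicF.IsInvertible M) {s₀ : Γ(M, ⊤)} (hs₀ : locus s₀ = U)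
    (B : Finset X) (hB : ∀ z ∈ B, VarDim.dimPt k X z = 1 ∧ z ∉ U) : ∀ S : Finset X, S ⊆ B →
    ∃ (L : X.Modules) (s : Γ(L, ⊤)), PicF.IsInvertible L ∧ U ≤ locus s ∧ (∀ η ∈ S, η ∉ locus s) ∧
      ∀ z ∈ B, ∃ u : Γ(L, ⊤), z ∈ locus u ∧ (z ∈ S → ∃ x : X, z ⤳ x ∧ x ∉ locus u) := by
  classical
  intro S
  induction S using Finset.induction_on with
  | empty =>
    intro _
    have h1 : locus (one' (⊤ : X.Opens) : Γ(Coh.structureModule X, ⊤)) = ⊤ :=
      top_le_iff.1 (le_locus le_rfl (by rw [QCoh.res_self]; exact isGen_one ⊤))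
    exact ⟨Coh.structureModule X, one' ⊤, GenAt.isInvertible_structureModule X, by rw [h1]; exact le_top,
      by simp, fun z _ => ⟨one' ⊤, by rw [h1]; trivial, by simp⟩⟩
  | @insert η S _ ih =>
    intro hS
    obtain ⟨L₁, s₁, hL₁, hU₁, hn₁, hu₁⟩ := ih ((Finset.subset_insert η S).trans hS)
    have hηB := hS (Finset.mem_insert_self η S)
    obtain ⟨L₂, s₂, t₂, hL₂, hU₂, hs₂, ht₂, ⟨x₂, hηx₂, hx₂⟩, hor⟩ :=
      hX.exists_good hUa hU hM hs₀ B (fun z hz => (hB z hz).1) hηB (hB η hηB).2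
    refine ⟨CohB1.tensorMod L₁ L₂, tmul s₁ s₂, AmpleLib.isInvertible_tensorMod hL₁ hL₂,
      by rw [locus_tmul hL₁ hL₂]; exact le_inf hU₁ hU₂, fun z hz => ?_, fun z hz => ?_⟩
    · rw [locus_tmul hL₁ hL₂]
      rcases Finset.mem_insert.1 hz with rfl | hz
      · exact fun h => hs₂ h.2
      · exact fun h => hn₁ z hz h.1
    · obtain ⟨u, hzu, hu⟩ := hu₁ z hz
      by_cases hzη : z = η
      · subst hzη
        exact ⟨tmul u t₂, by rw [locus_tmul hL₁ hL₂]; exact ⟨hzu, ht₂⟩,
          fun _ => ⟨x₂, hηx₂, by rw [locus_tmul hL₁ hL₂]; exact fun h => hx₂ h.2⟩⟩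
      obtain ⟨v, hv⟩ : ∃ v : Γ(L₂, ⊤), z ∈ locus v := (hor z hz).elim (fun h => ⟨_, h⟩) fun h => ⟨_, h⟩
      refine ⟨tmul u v, by rw [locus_tmul hL₁ hL₂]; exact ⟨hzu, hv⟩, fun hzS => ?_⟩
      obtain ⟨x, hzx, hx⟩ := hu ((Finset.mem_insert.1 hzS).resolve_left hzη)
      exact ⟨x, hzx, by rw [locus_tmul hL₁ hL₂]; exact fun h => hx h.1⟩

/-- A regular proper surface has an ample invertible module. -/
theorem RegSurf.exists_ample (hX : RegSurf k (X := X)) : ∃ H : X.Modules, CohB1.IsAmple H := by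
  classical
  haveI := EulerChar.isNoetherian k (X := X)
  haveI : X.IsSeparated := ⟨by
    rw [show terminal.from X = (X ↘ Spec (CommRingCat.of k)) ≫ terminal.from _ from Subsingleton.elim _ _]
    infer_instance⟩
  obtain ⟨U, hUa, hU⟩ : ∃ U : X.Opens, IsAffineOpen U ∧ Dense (U : Set X) := by
    by_cases h : IsEmpty X
    · exact ⟨⊥, isAffineOpen_bot X, fun x => (h.false x).elim⟩
    · obtain ⟨x⟩ := not_isEmpty_iff.1 h
      obtain ⟨U, -, h1, h2⟩ := AmpleFam.Factorial.exists_dense_affine hX.isDomain x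
      exact ⟨U, h1, h2⟩
  obtain ⟨D, hD, hDU⟩ := S1687.result X (fun V W hV hW => hV.inf hW) U hUa hU
    (fun x _ => ⟨hX.isDomain x, haveI := hX.reg x; RegLoc.UFD.uniqueFactorizationMonoid _⟩)
  obtain ⟨L₀, σ₀, hL₀, hσ₀⟩ := GrpScheme.DivSection.exists_section D hD
  have hM : PicF.IsInvertible (CohB1.tensorPow L₀ 1) := AmpleLib.isInvertible_tensorPow hL₀ 1
  let s₀ : Γ(CohB1.tensorPow L₀ 1, ⊤) := sec σ₀ ⊤
  have hs₀ : locus s₀ = U := Opens.ext (by rw [← genLocus_eq_locus, hσ₀, hDU, compl_compl])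
  let B : Finset X := (hX.finite_bad hU).toFinset
  have hB : ∀ z, z ∈ B ↔ (VarDim.dimPt k X z = 1 ∧ z ∉ U) := fun z => (hX.finite_bad hU).mem_toFinset
  obtain ⟨L, s, hL, hsU, hns, hu⟩ := hX.exists_sum hUa hU hM hs₀ B (fun z hz => (hB z).1 hz) B subset_rfl
  -- a point outside `U` lies on a curve outside `U`
  have hcover : ∀ y : X, y ∉ U → ∃ η ∈ B, η ⤳ y := fun y hy => by
    have h2 : VarDim.dimPt k X y ≠ 2 := fun h => hy (hX.mem_of_dense hU h)
    have h3 := hX.le_two y
    rcases Nat.eq_zero_or_pos (VarDim.dimPt k X y) with h0 | h0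
    · obtain ⟨W', e, hyW, he⟩ := exists_isGen hM y
      obtain ⟨W, hW, hyW', hle⟩ := exists_isAffineOpen_mem_and_subset (U := W') (x := y) hyW
      have he' := he.restrict hle
      obtain ⟨a, ha, -⟩ := he'.exists_eq le_rfl (res _ (le_top : W ≤ ⊤) s₀)
      rw [QCoh.res_self] at ha
      have hloc := AmpleLib.locus_inf le_top he' s₀ ha
      rw [hs₀] at hloc
      obtain ⟨c, hcy, hcW, hc1, hca⟩ := hX.exists_curve h0 hW hyW' a
        (fun h => hy (by rw [← hloc] at h; exact h.1))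
        (fun z hz hz2 => hloc ▸ ⟨hX.mem_of_dense hU hz2, hz.mem_open W.2 hyW'⟩)
      exact ⟨c, (hB c).2 ⟨hc1, fun hcU => hca (hloc ▸ ⟨hcU, hcW⟩)⟩, hcy⟩
    · exact ⟨y, (hB y).2 ⟨by omega, hy⟩, specializes_rfl⟩
  -- every curve carries a section with a zero
  have hcurve : ∀ y : X, VarDim.dimPt k X y = 1 →
      ∃ v : Γ(L, ⊤), y ∈ locus v ∧ ∃ x : X, y ⤳ x ∧ x ∉ locus v := fun y hy => by
    by_cases hyU : y ∈ U
    · refine ⟨s, hsU hyU, ?_⟩
      obtain ⟨x, hyx, hxU⟩ : ∃ x : X, y ⤳ x ∧ x ∉ U := by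
        by_contra hall
        simp only [not_exists, not_and, not_not] at hall
        let C := IntMult.ptIdeal y
        haveI : IsIntegral C.subscheme := S16188.isIntegral_subscheme _ isIrreducible_singleton.closure
        letI : C.subscheme.Over (Spec (CommRingCat.of k)) := ⟨C.subschemeι ≫ (X ↘ Spec (CommRingCat.of k))⟩
        haveI : IsProper (C.subscheme ↘ Spec (CommRingCat.of k)) :=
          inferInstanceAs (IsProper (C.subschemeι ≫ (X ↘ Spec (CommRingCat.of k))))
        obtain ⟨hdim, -, -⟩ := NefPos.piece_eq k y (e := 1) (l := [L]) (by rw [VarBC.Dim.topDim_closure k y, hy])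
          (fun A hA => by rw [List.mem_singleton.1 hA]; exact hL) rfl
        refine EulerChar.not_isAffine k hdim ?_
        have hpre : C.subschemeι ⁻¹ᵁ U = ⊤ := top_le_iff.1 fun w _ => hall _ (by
          have : C.subschemeι w ∈ (C.support : Set X) := by rw [← C.range_subschemeι]; exact ⟨w, rfl⟩
          rw [CohDev.coe_support_ptIdeal] at this
          exact specializes_iff_mem_closure.2 this)
        have haff := hUa.preimage C.subschemeι
        rw [hpre] at haff
        haveI : IsAffine (⊤ : C.subscheme.Opens) := haff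
        exact IsAffine.of_isIso C.subscheme.topIso.inv
      obtain ⟨η, hη, hηx⟩ := hcover x hxU
      exact ⟨x, hyx, fun hxs => hns η hη (hηx.mem_open (locus s).2 hxs)⟩
    · obtain ⟨v, hv, hv'⟩ := hu y ((hB y).2 ⟨hy, hyU⟩)
      exact ⟨v, hv, hv' ((hB y).2 ⟨hy, hyU⟩)⟩
  refine ⟨L, BigVol.EffAmple.isAmple_of_forall_section k hL (fun y hy => ?_) fun Z hZ => ?_⟩
  · obtain ⟨v, hyv, x, hyx, hxv⟩ := hcurve y hy
    let C := IntMult.ptIdeal y
    haveI : IsIntegral C.subscheme := S16188.isIntegral_subscheme _ isIrreducible_singleton.closure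
    letI : C.subscheme.Over (Spec (CommRingCat.of k)) := ⟨C.subschemeι ≫ (X ↘ Spec (CommRingCat.of k))⟩
    haveI : IsProper (C.subscheme ↘ Spec (CommRingCat.of k)) :=
      inferInstanceAs (IsProper (C.subschemeι ≫ (X ↘ Spec (CommRingCat.of k))))
    obtain ⟨hdim, -, -⟩ := NefPos.piece_eq k y (e := 1) (l := [L]) (by rw [VarBC.Dim.topDim_closure k y, hy])
      (fun A hA => by rw [List.mem_singleton.1 hA]; exact hL) rfl
    have hmem : ∀ z : X, y ⤳ z → z ∈ Set.range C.subschemeι := fun z hz => by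
      rw [C.range_subschemeι]
      show z ∈ (C.support : Set X)
      rw [CohDev.coe_support_ptIdeal]
      exact specializes_iff_mem_closure.1 hz
    obtain ⟨w, hw⟩ := hmem y specializes_rfl
    obtain ⟨w', hw'⟩ := hmem x hyx
    have hd := S1519.result k C.subscheme hdim _ (PicCl.isInvertible_pullback C.subschemeι hL)
      (homOfSec (pb C.subschemeι v))
      (ne_zero_of_mem_locus (x := w) ((mem_locus_pb C.subschemeι hL v w).2 (by rw [hw]; exact hyv))) w' (by
        rw [genLocus_homOfSec]; intro h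
        exact hxv (hw' ▸ (mem_locus_pb C.subschemeι hL v w').1 h))
    rw [← IntProd70.intC_one k C hL] at hd
    have e1 := NefPos.iC_ofFn k (L := fun _ : Fin 1 => L) (fun _ => hL) (EulerChar.isCoh_quotMod k C)
    rw [e1, List.ofFn_succ, List.ofFn_zero, NefPos.iC_cons, NefPos.iC_nil, NefPos.iC_nil,
      EulerChar.euler_iso k (ProjTwist.tensComm L (ClSub.quotMod C))] at hd
    exact hd
  · haveI := hZ
    set z := Z.subschemeι (genericPoint Z.subscheme) with hzdef
    suffices h : ∃ v : Γ((Scheme.Modules.pullback Z.subschemeι).obj L, ⊤),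
        genericPoint Z.subscheme ∈ locus v by
      obtain ⟨v, hv⟩ := h
      exact ⟨0, homOfSec (pw _ v 1), ne_zero_of_mem_locus (le_locus_pw 1 hv)⟩
    by_cases hzU : z ∈ U
    · refine ⟨pb Z.subschemeι s, ?_⟩
      exact (mem_locus_pb Z.subschemeι hL s _).2 (hsU hzU)
    have h2 : VarDim.dimPt k X z ≠ 2 := fun h => hzU (hX.mem_of_dense hU h)
    have h3 := hX.le_two z
    rcases Nat.eq_zero_or_pos (VarDim.dimPt k X z) with h0 | h0
    · obtain ⟨W, e, hW, he⟩ := exists_isGen (PicCl.isInvertible_pullback Z.subschemeι hL) (genericPoint Z.subscheme)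
      have hsing : ∀ w : Z.subscheme, w = genericPoint Z.subscheme := fun w => by
        refine Z.subschemeι.isEmbedding.injective ?_
        by_contra hne
        have := hX.dimPt_lt (((genericPoint_specializes w).map Z.subschemeι.continuous) :
          z ⤳ Z.subschemeι w) hne
        rw [h0] at this
        exact Nat.not_lt_zero _ this
      obtain rfl : W = ⊤ := top_le_iff.1 fun w _ => by rw [hsing w]; exact hW
      exact ⟨e, le_locus le_rfl (by rw [QCoh.res_self]; exact he) hW⟩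
    · obtain ⟨v, hv, -⟩ := hu z ((hB z).2 ⟨by omega, hzU⟩)
      refine ⟨pb Z.subschemeι v, ?_⟩
      exact (mem_locus_pb Z.subschemeι hL v _).2 hv

/-- A regular proper surface is projective. -/
theorem exists_closedImmersion (hreg : ∀ x : X, IsRegularLocalRing (X.presheaf.stalk x))
    (hdim : ∀ Z ∈ irreducibleComponents (X : Type u), topologicalKrullDim Z = 2) :
    ∃ (n : ℕ) (i : X ⟶ CohB1.ProjSpace n k), IsClosedImmersion i ∧
      i ≫ CohB1.ProjSpace.toSpec n k = X ↘ Spec (CommRingCat.of k) := by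
  obtain ⟨H, hH⟩ := (RegSurf.mk' k hreg hdim).exists_ample
  exact NumTriv.exists_closedImmersion_of_ample hH

end Groth.Agent.SurfProj
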