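import Groth.Agent.SurfProj.Sections
import Groth.Agent.VarDim.Scheme
import Mathlib.RingTheory.Filtration

/-!
# Clearing common zeros of two sections along curves
-/

set_option autoImplicit false
set_option linter.style.haveILetI false

universe u

open CategoryTheory Limits AlgebraicGeometry Opposite TopologicalSpace

noncomputable section

namespace Groth.Agent.SurfProj

open Groth.Agent.QCoh Groth.Agent.Props.GenLocus Groth.Agent.Props.GenTensor Groth.Agent.Props.GenProd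
  Groth.Agent.AmpleLib Groth.Agent.NegVan
open OmegaSh (idealSect)

variable {X : Scheme.{u}}

/-- The order of vanishing at `η` is less than `N`. -/
def OrdLT {L : X.Modules} (η : X) (s : Γ(L, ⊤)) (N : ℕ) : Prop :=
  ∃ (W : X.Opens) (hη : η ∈ W) (e : Γ(L, W)) (a : Γ(X, W)), IsGen L W e ∧
    res L le_top s = a • e ∧
    X.presheaf.germ W η hη a ∉ IsLocalRing.maximalIdeal (X.presheaf.stalk η) ^ N

theorem germ_mem_maximalIdeal {W : X.Opens} {η : X} (hη : η ∈ W) {a : Γ(X, W)} (h : η ∉ X.basicOpen a) :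
    X.presheaf.germ W η hη a ∈ IsLocalRing.maximalIdeal (X.presheaf.stalk η) :=
  (IsLocalRing.mem_maximalIdeal _).2 fun hu => h ((X.mem_basicOpen a η hη).2 hu)

theorem exists_ordLT [IsReduced X] {L : X.Modules} (hL : PicF.IsInvertible L) {U : X.Opens}
    (hU : Dense (U : Set X)) {s : Γ(L, ⊤)} (hs : U ≤ locus s) (η : X) [IsDomain (X.presheaf.stalk η)]
    [IsNoetherianRing (X.presheaf.stalk η)] : ∃ N, OrdLT η s N := by
  obtain ⟨W, e, hη, he⟩ := exists_isGen hL η
  obtain ⟨a, ha, -⟩ := he.exists_eq le_rfl (res L (le_top : W ≤ ⊤) s)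
  rw [res_self] at ha
  have hne : X.presheaf.germ W η hη a ≠ 0 := fun h0 => by
    obtain ⟨W', hη', i, i', hW'⟩ := X.presheaf.germ_eq η hη hη a 0 (h0.trans (map_zero _).symm)
    rw [map_zero] at hW'
    obtain ⟨z, hz1, hz2⟩ := hU.inter_open_nonempty _ W'.2 ⟨η, hη'⟩
    have h1 : z ∈ X.basicOpen (rres i.le a) := by
      rw [X.basicOpen_res, ← AmpleLib.locus_inf le_top he s ha]
      exact ⟨hz1, hs hz2, i.le hz1⟩
    rw [show rres i.le a = 0 from hW', X.basicOpen_zero] at h1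
    exact h1
  by_contra hall
  simp only [OrdLT, not_exists, not_and, not_not] at hall
  refine hne ?_
  have hmem : X.presheaf.germ W η hη a ∈ ⨅ N : ℕ, IsLocalRing.maximalIdeal (X.presheaf.stalk η) ^ N :=
    Ideal.mem_iInf.2 fun N => hall N W hη e a he ha
  rw [Ideal.iInf_pow_eq_bot_of_isLocalRing _ (IsLocalRing.maximalIdeal.isMaximal _).ne_top] at hmem
  exact hmem

variable {U : X.Opens}

/-- One division step. -/
theorem exists_step {η : X} (hD : PicF.IsInvertible (ClSub.idealMod (IntMult.ptIdeal η))) {L : X.Modules}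
    (hL : PicF.IsInvertible L) {f : Γ(X, U)} {s t : Γ(L, ⊤)} (hst : Rel f s t) {N : ℕ} (ho : OrdLT η s N)
    (hs : η ∉ locus s) (ht : η ∉ locus t) :
    ∃ (L' : X.Modules) (s' t' : Γ(L', ⊤)) (N' : ℕ), PicF.IsInvertible L' ∧ N' < N ∧ OrdLT η s' N' ∧
      locus s ≤ locus s' ∧ locus t ≤ locus t' ∧ Rel f s' t' := by
  let D := IntMult.ptIdeal η
  obtain ⟨s', hs'⟩ := exists_divide hD hL hs
  obtain ⟨t', ht'⟩ := exists_divide hD hL ht
  have hLI := AmpleLib.isInvertible_tensorMod hL hD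
  obtain ⟨W, hη, e, a, he, ha, hN⟩ := ho
  obtain ⟨W', g, hη', hg⟩ := exists_isGen hD η
  let V := W ⊓ W'
  have g₁ := he.restrict (inf_le_left : V ≤ W)
  have g₂ := hg.restrict (inf_le_right : V ≤ W')
  obtain ⟨b, hb, -⟩ := (isGen_tmul g₁ g₂).exists_eq le_rfl (res _ (le_top : V ≤ ⊤) s')
  rw [res_self] at hb
  have h1 := congrArg ((θ D L).app V) hb
  rw [app_res, hs', Scheme.Modules.Hom.app_smul, θ_tmul, smul_smul,
    ← QCoh.res_res L (le_top : W ≤ ⊤) (inf_le_left : V ≤ W) s, ha, res_smul] at h1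
  have hab : rres (inf_le_left : V ≤ W) a = b * idealSect D V (res _ (inf_le_right : V ≤ W') g) := by
    refine g₁.injective le_rfl ?_
    rw [res_self]
    exact h1
  have hηV : η ∈ V := ⟨hη, hη'⟩
  have hgm : X.presheaf.germ V η hηV (idealSect D V (res _ (inf_le_right : V ≤ W') g)) ∈
      IsLocalRing.maximalIdeal (X.presheaf.stalk η) :=
    germ_mem_maximalIdeal hηV (not_mem_basicOpen_sect _)
  have hgerm : X.presheaf.germ W η hη a = X.presheaf.germ V η hηV b *
      X.presheaf.germ V η hηV (idealSect D V (res _ (inf_le_right : V ≤ W') g)) := by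
    rw [← map_mul, ← hab]
    exact (X.presheaf.germ_res_apply (homOfLE (inf_le_left : V ≤ W)) η hηV a).symm
  obtain _ | N' := N
  · exact (hN (by simp)).elim
  refine ⟨CohB1.tensorMod L (ClSub.idealMod D), s', t', N', hLI, Nat.lt_succ_self _,
    ⟨V, hηV, _, b, isGen_tmul g₁ g₂, hb, fun h => hN ?_⟩, hs' ▸ le_locus_app hLI hL (θ D L) s',
    ht' ▸ le_locus_app hLI hL (θ D L) t', ?_⟩
  · rw [hgerm, pow_succ]
    exact Ideal.mul_mem_mul h hgm
  · show res _ (le_top : U ≤ ⊤) t' = f • res _ (le_top : U ≤ ⊤) s'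
    refine θ_injective D hL hD U ?_
    rw [Scheme.Modules.Hom.app_smul, app_res, app_res, hs', ht']
    exact hst

/-- Two sections without common zero at `η`. -/
theorem exists_clear_one {η : X} (hD : PicF.IsInvertible (ClSub.idealMod (IntMult.ptIdeal η)))
    {f : Γ(X, U)} : ∀ (N : ℕ) {L : X.Modules}, PicF.IsInvertible L → ∀ (s t : Γ(L, ⊤)), Rel f s t →
    OrdLT η s N → ∃ (L' : X.Modules) (s' t' : Γ(L', ⊤)), PicF.IsInvertible L' ∧
      locus s ≤ locus s' ∧ locus t ≤ locus t' ∧ Rel f s' t' ∧ (η ∈ locus s' ∨ η ∈ locus t') := by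
  intro N
  induction N using Nat.strong_induction_on with
  | _ N ih =>
    intro L hL s t hst ho
    by_cases h : η ∈ locus s ∨ η ∈ locus t
    · exact ⟨L, s, t, hL, le_rfl, le_rfl, hst, h⟩
    obtain ⟨L₁, s₁, t₁, N', hL₁, hlt, ho₁, hs₁, ht₁, hst₁⟩ :=
      exists_step hD hL hst ho (fun h' => h (Or.inl h')) (fun h' => h (Or.inr h'))
    obtain ⟨L₂, s₂, t₂, hL₂, hs₂, ht₂, hst₂, hor⟩ := ih N' hlt hL₁ s₁ t₁ hst₁ ho₁
    exact ⟨L₂, s₂, t₂, hL₂, hs₁.trans hs₂, ht₁.trans ht₂, hst₂, hor⟩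

/-- Two sections without common zero on a finite set of points. -/
theorem exists_clear [IsReduced X] [IsLocallyNoetherian X] (hdom : ∀ x : X, IsDomain (X.presheaf.stalk x))
    (hU : Dense (U : Set X)) {f : Γ(X, U)} (S : Finset X)
    (hD : ∀ η ∈ S, PicF.IsInvertible (ClSub.idealMod (IntMult.ptIdeal η)))
    {L : X.Modules} (hL : PicF.IsInvertible L) (s t : Γ(L, ⊤)) (hs : U ≤ locus s) (hst : Rel f s t) :
    ∃ (L' : X.Modules) (s' t' : Γ(L', ⊤)), PicF.IsInvertible L' ∧ U ≤ locus s' ∧ Rel f s' t' ∧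
      locus s ≤ locus s' ∧ locus t ≤ locus t' ∧ ∀ η ∈ S, η ∈ locus s' ∨ η ∈ locus t' := by
  classical
  induction S using Finset.induction_on with
  | empty => exact ⟨L, s, t, hL, hs, hst, le_rfl, le_rfl, by simp⟩
  | @insert η S _ ih =>
    obtain ⟨L₁, s₁, t₁, hL₁, hU₁, hst₁, hs₁, ht₁, hor₁⟩ :=
      ih fun z hz => hD z (Finset.mem_insert_of_mem hz)
    haveI := hdom η
    obtain ⟨N, hN⟩ := exists_ordLT hL₁ hU hU₁ η
    obtain ⟨L₂, s₂, t₂, hL₂, hs₂, ht₂, hst₂, hor₂⟩ :=
      exists_clear_one (hD η (Finset.mem_insert_self η S)) N hL₁ s₁ t₁ hst₁ hN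
    refine ⟨L₂, s₂, t₂, hL₂, hU₁.trans hs₂, hst₂, hs₁.trans hs₂, ht₁.trans ht₂, fun z hz => ?_⟩
    rcases Finset.mem_insert.1 hz with rfl | hz
    · exact hor₂
    · exact (hor₁ z hz).imp (fun h => hs₂ h) (fun h => ht₂ h)

/-- A function on `U` has a pole at `η`. -/
def Pole (f : Γ(X, U)) (η : X) : Prop :=
  ∀ (V : X.Opens) (a : Γ(X, V)), η ∈ V →
    rres (inf_le_left : V ⊓ U ≤ V) a ≠ rres (inf_le_right : V ⊓ U ≤ U) f

/-- At a pole the section `s` vanishes. -/
theorem Pole.not_mem_locus {f : Γ(X, U)} {η : X} (hf : Pole f η) {L : X.Modules} {s t : Γ(L, ⊤)}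
    (hst : Rel f s t) : η ∉ locus s := by
  intro hη
  have hgs := isGen_locus s
  obtain ⟨a, ha, -⟩ := hgs.exists_eq le_rfl (res L (le_top : locus s ≤ ⊤) t)
  rw [res_self] at ha
  refine hf (locus s) a hη (hgs.injective (inf_le_left : locus s ⊓ U ≤ locus s) ?_)
  rw [← res_smul, ← ha, QCoh.res_res, QCoh.res_res]
  have h2 := congrArg (res L (inf_le_right : locus s ⊓ U ≤ U)) (hst : res L (le_top : U ≤ ⊤) t = _)
  rw [res_smul, QCoh.res_res, QCoh.res_res] at h2
  exact h2

/-- A power of a function with a pole, times a nonzero function, has a pole. -/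
theorem exists_pole_mul_pow [IsReduced X] (hU : Dense (U : Set X)) {η ξ : X} (hξ : ξ ⤳ η)
    [IsDomain (X.presheaf.stalk η)] [IsNoetherianRing (X.presheaf.stalk η)] {g h : Γ(X, U)}
    (hh : ξ ∈ X.basicOpen h) {L : X.Modules} (hL : PicF.IsInvertible L) {s t : Γ(L, ⊤)}
    (hst : Rel g s t) (hs : η ∉ locus s) (ht : η ∈ locus t) : ∃ N : ℕ, Pole (h * g ^ N) η := by
  by_contra hall
  simp only [Pole, not_exists, not_forall, not_not] at hall
  choose V c hηV hc using hall
  have hgt := isGen_locus t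
  obtain ⟨a, ha, -⟩ := hgt.exists_eq le_rfl (res L (le_top : locus t ≤ ⊤) s)
  rw [res_self] at ha
  have hηa : η ∉ X.basicOpen a := fun h' => hs (by
    rw [← AmpleLib.locus_inf le_top hgt s ha] at h'
    exact h'.1)
  have hga : rres (inf_le_left : locus t ⊓ U ≤ locus t) a * rres (inf_le_right : locus t ⊓ U ≤ U) g = 1 := by
    refine hgt.injective (inf_le_left : locus t ⊓ U ≤ locus t) ?_
    rw [one_smul, mul_comm, mul_smul, ← res_smul, ← ha, QCoh.res_res, QCoh.res_res]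
    have h2 := congrArg (res L (inf_le_right : locus t ⊓ U ≤ U)) (hst : res L (le_top : U ≤ ⊤) t = _)
    rw [res_smul, QCoh.res_res, QCoh.res_res] at h2
    exact h2.symm
  have hdiv : ∀ N : ℕ, X.presheaf.germ (V 0) η (hηV 0) (c 0) ∈
      IsLocalRing.maximalIdeal (X.presheaf.stalk η) ^ N := fun N => by
    let W := V 0 ⊓ V N ⊓ locus t
    have h0 : W ≤ V 0 := inf_le_left.trans inf_le_left
    have hN : W ≤ V N := inf_le_left.trans inf_le_right
    have hW : η ∈ W := ⟨⟨hηV 0, hηV N⟩, ht⟩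
    have key : rres h0 (c 0) = rres hN (c N) * rres (inf_le_right : W ≤ locus t) a ^ N := by
      refine eq_of_dense hU ?_
      have e0 := congrArg (rres (inf_le_inf_right U h0 : W ⊓ U ≤ V 0 ⊓ U)) (hc 0)
      have eN := congrArg (rres (inf_le_inf_right U hN : W ⊓ U ≤ V N ⊓ U)) (hc N)
      have ea := congrArg (rres (inf_le_inf_right U inf_le_right : W ⊓ U ≤ locus t ⊓ U)) hga
      simp only [pow_zero, mul_one, map_mul, map_pow, map_one, rres_rres] at e0 eN ea ⊢
      rw [e0, eN, mul_assoc, ← mul_pow, mul_comm (rres _ g), ea, one_pow, mul_one]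
    have h1 := congrArg (X.presheaf.germ W η hW) key
    have g0 : X.presheaf.germ W η hW (rres h0 (c 0)) = X.presheaf.germ (V 0) η (hηV 0) (c 0) :=
      X.presheaf.germ_res_apply (homOfLE h0) η hW (c 0)
    have ga : X.presheaf.germ W η hW (rres (inf_le_right : W ≤ locus t) a) =
        X.presheaf.germ (locus t) η ht a :=
      X.presheaf.germ_res_apply (homOfLE (inf_le_right : W ≤ locus t)) η hW a
    rw [map_mul, map_pow, g0, ga] at h1
    rw [h1]
    exact Ideal.mul_mem_left _ _ (Ideal.pow_mem_pow (germ_mem_maximalIdeal ht hηa) N)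
  have hzero : X.presheaf.germ (V 0) η (hηV 0) (c 0) = 0 := by
    have hmem := Ideal.mem_iInf.2 hdiv
    rwa [Ideal.iInf_pow_eq_bot_of_isLocalRing _ (IsLocalRing.maximalIdeal.isMaximal _).ne_top] at hmem
  obtain ⟨W, hηW, i, i', hW⟩ := X.presheaf.germ_eq η (hηV 0) (hηV 0) (c 0) 0 (hzero.trans (map_zero _).symm)
  rw [map_zero] at hW
  have hcW : rres i.le (c 0) = 0 := hW
  have e0 := congrArg (rres (inf_le_inf_right U i.le : W ⊓ U ≤ V 0 ⊓ U)) (hc 0)
  rw [pow_zero, mul_one, rres_rres, rres_rres,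
    ← rres_rres i.le (inf_le_left : W ⊓ U ≤ W) (c 0), hcW, map_zero] at e0
  have hξ' : ξ ∈ X.basicOpen (rres (inf_le_right : W ⊓ U ≤ U) h) := by
    rw [X.basicOpen_res]
    exact ⟨⟨hξ.mem_open W.2 hηW, X.basicOpen_le h hh⟩, hh⟩
  rw [← e0, X.basicOpen_zero] at hξ'
  exact hξ'

variable (k : Type u) [Field k] [X.Over (Spec (CommRingCat.of k))]
  [LocallyOfFiniteType (X ↘ Spec (CommRingCat.of k))]

attribute [local instance] VarDim.secAlgebra

include k

/-- Some function on an affine open has a pole at any given point outside. -/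
theorem exists_pole [IsReduced X] [X.IsSeparated] (hUa : IsAffineOpen U) (hU : Dense (U : Set X))
    {η : X} (hη : η ∉ U) : ∃ f : Γ(X, U), Pole f η := by
  classical
  by_contra hall
  simp only [Pole, not_exists, not_forall, not_not, exists_prop] at hall
  haveI := VarDim.finiteType_sections k hUa
  obtain ⟨S, hS⟩ := Algebra.FiniteType.out (R := k) (A := Γ(X, U))
  choose V c hηV hc using hall
  obtain ⟨W, hW₀, hηW, hWle⟩ := exists_isAffineOpen_mem_and_subset (x := η) (U := S.inf V)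
    (show η ∈ ((S.inf V : X.Opens) : Set X) by
      simp only [TopologicalSpace.Opens.coe_finset_inf, Finset.inf_set_eq_iInter, Set.mem_iInter]
      exact fun f _ => hηV f)
  let rV : Γ(X, W) →+* Γ(X, W ⊓ U) := (rres (inf_le_left : W ⊓ U ≤ W)).hom
  have hrVinj : Function.Injective rV := fun a b h => eq_of_dense hU h
  let rU : Γ(X, U) →ₐ[k] Γ(X, W ⊓ U) :=
    { (rres (inf_le_right : W ⊓ U ≤ U)).hom with
      commutes' := fun r => rres_rres le_top inf_le_right _ }
  let rV' : Γ(X, W) →ₐ[k] Γ(X, W ⊓ U) :=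
    { rV with commutes' := fun r => rres_rres le_top inf_le_left _ }
  have hmem : ∀ f, rU f ∈ rV'.range := by
    intro f
    have hle : Algebra.adjoin k (S : Set Γ(X, U)) ≤ rV'.range.comap rU := by
      refine Algebra.adjoin_le fun g hg => ?_
      have hle : W ≤ V g := le_trans hWle (Finset.inf_le hg)
      refine ⟨rres hle (c g), ?_⟩
      have h2 := congrArg (rres (inf_le_inf_right U hle : W ⊓ U ≤ V g ⊓ U)) (hc g)
      rw [rres_rres, rres_rres] at h2
      show rres (inf_le_left : W ⊓ U ≤ W) (rres hle (c g)) = rres inf_le_right g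
      rw [rres_rres]
      exact h2
    exact hle (hS ▸ Algebra.mem_top)
  choose φ hφ using hmem
  let φ' : Γ(X, U) →+* Γ(X, W) :=
    { toFun := φ
      map_one' := hrVinj (by rw [map_one]; exact (hφ 1).trans (map_one rU))
      map_mul' := fun a b => hrVinj (by
        rw [map_mul]; exact (hφ (a * b)).trans ((map_mul rU a b).trans (congrArg₂ (· * ·) (hφ a) (hφ b)).symm))
      map_zero' := hrVinj (by rw [map_zero]; exact (hφ 0).trans (map_zero rU))
      map_add' := fun a b => hrVinj (by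
        rw [map_add]; exact (hφ (a + b)).trans ((map_add rU a b).trans (congrArg₂ (· + ·) (hφ a) (hφ b)).symm)) }
  let g : (W : Scheme.{u}) ⟶ X := W.toSpecΓ ≫ Spec.map (CommRingCat.ofHom φ') ≫ hUa.fromSpec
  have hg : g = W.ι := by
    haveI : IsDominant (X.homOfLE (inf_le_left : W ⊓ U ≤ W)) := by
      refine ⟨fun w => ?_⟩
      rw [mem_closure_iff]
      intro O hO hw
      obtain ⟨z, ⟨z₀, hzO, rfl⟩, hzU⟩ := hU.inter_open_nonempty (W.ι '' O)
        (W.ι.isOpenEmbedding.isOpenMap O hO) ⟨W.ι w, w, hw, rfl⟩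
      let z' : ↥(W ⊓ U) := ⟨W.ι z₀, z₀.2, hzU⟩
      refine ⟨z₀, hzO, z', W.ι.isOpenEmbedding.injective ?_⟩
      rw [← Scheme.Hom.comp_apply, Scheme.homOfLE_ι]
      rfl
    refine ext_of_isDominant (X.homOfLE (inf_le_left : W ⊓ U ≤ W)) ?_
    have hφ' : CommRingCat.ofHom φ' ≫ X.presheaf.map (homOfLE (inf_le_left : W ⊓ U ≤ W)).op =
        X.presheaf.map (homOfLE (inf_le_right : W ⊓ U ≤ U)).op := by
      ext f
      exact hφ f
    show X.homOfLE _ ≫ W.toSpecΓ ≫ Spec.map (CommRingCat.ofHom φ') ≫ hUa.fromSpec = X.homOfLE _ ≫ W.ι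
    rw [Scheme.homOfLE_ι, ← Scheme.Opens.toSpecΓ_SpecMap_presheaf_map_assoc, ← Spec.map_comp_assoc, hφ',
      Scheme.Opens.toSpecΓ_SpecMap_presheaf_map_assoc, hUa.toSpecΓ_fromSpec, Scheme.homOfLE_ι]
  apply hη
  have h : g ⟨η, hηW⟩ = η := by rw [hg]; rfl
  rw [← h]
  show hUa.fromSpec ((W.toSpecΓ ≫ Spec.map (CommRingCat.ofHom φ')) ⟨η, hηW⟩) ∈ (U : Set X)
  rw [← hUa.range_fromSpec]
  exact ⟨_, rfl⟩

end Groth.Agent.SurfProj
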