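import Groth.Agent.AmpleLib.Tensor
import Groth.Agent.AmpleLib.CompLemma
import Groth.Agent.IdealSh.IdealMod
import Groth.Agent.NegVan.MulTheta
import Groth.Agent.IdealSh.Regular
import Groth.Prelude.Def_IntMult

/-!
# Sections of invertible modules: density, extension, division by an equation
-/

set_option autoImplicit false
set_option linter.style.haveILetI false

universe u

open CategoryTheory Limits AlgebraicGeometry Opposite TopologicalSpace

noncomputable section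

namespace Groth.Agent.SurfProj

open Groth.Agent.QCoh Groth.Agent.Props.GenLocus Groth.Agent.Props.GenTensor Groth.Agent.Props.GenProd
  Groth.Agent.AmpleLib Groth.Agent.NegVan Groth.Agent.IdealSh
open OmegaSh (idealSect)

variable {X : Scheme.{u}}

theorem eq_zero_of_dense [IsReduced X] {U : X.Opens} (hU : Dense (U : Set X)) {V : X.Opens} {c : Γ(X, V)}
    (h : rres (inf_le_left : V ⊓ U ≤ V) c = 0) : c = 0 := by
  refine eq_zero_of_basicOpen_eq_bot c (le_bot_iff.1 fun y hy => ?_)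
  obtain ⟨z, hz1, hz2⟩ := hU.inter_open_nonempty _ (X.basicOpen c).2 ⟨y, hy⟩
  have h1 : z ∈ X.basicOpen (rres (inf_le_left : V ⊓ U ≤ V) c) := by
    rw [X.basicOpen_res]
    exact ⟨⟨X.basicOpen_le c hz1, hz2⟩, hz1⟩
  rw [h, X.basicOpen_zero] at h1
  exact h1

theorem eq_of_dense [IsReduced X] {U : X.Opens} (hU : Dense (U : Set X)) {V : X.Opens} {a b : Γ(X, V)}
    (h : rres (inf_le_left : V ⊓ U ≤ V) a = rres (inf_le_left : V ⊓ U ≤ V) b) : a = b :=
  sub_eq_zero.1 (eq_zero_of_dense hU (by rw [map_sub, h, sub_self]))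

theorem sec_eq_of_dense [IsReduced X] {L : X.Modules} (hL : PicF.IsInvertible L) {U : X.Opens}
    (hU : Dense (U : Set X)) {V : X.Opens} {σ τ : Γ(L, V)}
    (h : res L (inf_le_left : V ⊓ U ≤ V) σ = res L (inf_le_left : V ⊓ U ≤ V) τ) : σ = τ := by
  refine TopCat.Sheaf.eq_of_locally_eq' ⟨_, L.isSheaf⟩
    (fun x : V => (exists_isGen hL (x : X)).choose ⊓ V) V (fun _ => homOfLE inf_le_right)
    (fun x hx => Opens.mem_iSup.2 ⟨⟨x, hx⟩, (exists_isGen hL x).choose_spec.choose_spec.1, hx⟩) σ τ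
    fun x => ?_
  let W₀ := (exists_isGen hL (x : X)).choose
  let W := W₀ ⊓ V
  show res L (inf_le_right : W ≤ V) σ = res L (inf_le_right : W ≤ V) τ
  have he := (exists_isGen hL (x : X)).choose_spec.choose_spec.2
  obtain ⟨a, ha, -⟩ := he.exists_eq (inf_le_left : W ≤ W₀) (res L (inf_le_right : W ≤ V) σ)
  obtain ⟨b, hb, -⟩ := he.exists_eq (inf_le_left : W ≤ W₀) (res L (inf_le_right : W ≤ V) τ)
  rw [ha, hb, eq_of_dense hU (V := W) (a := a) (b := b) ?_]
  have h2 := congrArg (res L (inf_le_inf_right U inf_le_right : W ⊓ U ≤ V ⊓ U)) h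
  rw [res_res, res_res, ← res_res L (inf_le_right : W ≤ V) (inf_le_left : W ⊓ U ≤ W) σ,
    ← res_res L (inf_le_right : W ≤ V) (inf_le_left : W ⊓ U ≤ W) τ, ha, hb, res_smul, res_smul,
    res_res] at h2
  exact he.injective _ h2

/-- The relation `t = f • s` on `U`. -/
def Rel {L : X.Modules} {U : X.Opens} (f : Γ(X, U)) (s t : Γ(L, ⊤)) : Prop :=
  res L (le_top : U ≤ ⊤) t = f • res L (le_top : U ≤ ⊤) s

theorem Rel.locus_inf {L : X.Modules} (hL : PicF.IsInvertible L) {U : X.Opens} {f : Γ(X, U)}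
    {s t : Γ(L, ⊤)} (h : Rel f s t) (hs : U ≤ locus s) : locus t ⊓ U = X.basicOpen f := by
  rw [← locus_res (le_top : U ≤ ⊤) t, (h : res L (le_top : U ≤ ⊤) t = f • res L (le_top : U ≤ ⊤) s), locus_smul hL, locus_res, inf_eq_right.2 hs,
    inf_eq_left.2 (X.basicOpen_le f)]

theorem le_locus_app {L M : X.Modules} (hL : PicF.IsInvertible L) (hM : PicF.IsInvertible M) (φ : L ⟶ M)
    (σ : Γ(L, ⊤)) : locus (φ.app ⊤ σ) ≤ locus σ := by
  intro x hx
  obtain ⟨W₁, e₁, hx₁, he₁⟩ := exists_isGen hL x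
  obtain ⟨W₂, e₂, hx₂, he₂⟩ := exists_isGen hM x
  let W := W₁ ⊓ W₂
  have g₁ := he₁.restrict (inf_le_left : W ≤ W₁)
  have g₂ := he₂.restrict (inf_le_right : W ≤ W₂)
  obtain ⟨c, hc, -⟩ := g₁.exists_eq le_rfl (res L (le_top : W ≤ ⊤) σ)
  obtain ⟨d, hd, -⟩ := g₂.exists_eq le_rfl (φ.app W (res L (inf_le_left : W ≤ W₁) e₁))
  rw [res_self] at hc hd
  have h : res M (le_top : W ≤ ⊤) (φ.app ⊤ σ) = (c * d) • res M (inf_le_right : W ≤ W₂) e₂ := by
    rw [← app_res, hc, Scheme.Modules.Hom.app_smul, hd, smul_smul]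
  have h1 := AmpleLib.locus_inf le_top g₂ (φ.app ⊤ σ) h
  have h2 := AmpleLib.locus_inf le_top g₁ σ hc
  have hxW : x ∈ locus (φ.app ⊤ σ) ⊓ W := ⟨hx, hx₁, hx₂⟩
  rw [h1, X.basicOpen_mul, ← h2] at hxW
  exact hxW.1.1

/-- Functions on `U` times a power of a section with locus `U` extend. -/
theorem exists_extend [IsReduced X] [CompactSpace X] {M : X.Modules} (hM : PicF.IsInvertible M)
    (s₀ : Γ(M, ⊤)) {U : X.Opens} (hs : locus s₀ = U) (hU : Dense (U : Set X)) (f : Γ(X, U)) :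
    ∃ (n : ℕ) (t : Γ(CohB1.tensorPow M n, ⊤)), Rel f (pw M s₀ n) t := by
  classical
  subst hs
  have key : ∀ x : X, ∃ (W : X.Opens) (e : Γ(M, W)), x ∈ W ∧ IsAffineOpen W ∧ IsGen M W e := fun x => by
    obtain ⟨W', e, hxW, he⟩ := exists_isGen hM x
    obtain ⟨W, hW, hxW', hle⟩ := exists_isAffineOpen_mem_and_subset (U := W') (x := x) hxW
    exact ⟨W, res M hle e, hxW', hW, he.restrict hle⟩
  choose W e hxW hW he using key
  obtain ⟨F, hF⟩ := isCompact_univ.elim_finite_subcover (fun x : X => (W x : Set X))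
    (fun x => (W x).2) fun x _ => Set.mem_iUnion.mpr ⟨x, hxW x⟩
  have hcov : (⊤ : X.Opens) ≤ ⨆ i : F, W i := fun x _ => by
    obtain ⟨y, hy, hxy⟩ := Set.mem_iUnion₂.mp (hF (Set.mem_univ x))
    exact Opens.mem_iSup.mpr ⟨⟨y, hy⟩, hxy⟩
  choose a ha using fun i : F => (((he i).exists_eq le_rfl (res M (le_top : W i ≤ ⊤) s₀)).exists :
    ∃ a : Γ(X, W i), res M (le_top : W i ≤ ⊤) s₀ = a • res M le_rfl (e i))
  simp only [res_self] at ha
  have hloc : ∀ i : F, locus s₀ ⊓ W i = X.basicOpen (a i) := fun i =>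
    AmpleLib.locus_inf le_top (he i) s₀ (ha i)
  have hnum : ∀ i : F, ∃ (n : ℕ) (b : Γ(X, W i)),
      rres (inf_le_right : locus s₀ ⊓ W i ≤ W i) b =
        rres (inf_le_right : locus s₀ ⊓ W i ≤ W i) (a i) ^ n *
          rres (inf_le_left : locus s₀ ⊓ W i ≤ _) f := by
    intro i
    have : ∀ (O : X.Opens) (hO : O = X.basicOpen (a i)) (hle : O ≤ W i) (z : Γ(X, O)),
        ∃ (n : ℕ) (b : Γ(X, W i)), rres hle b = rres hle (a i) ^ n * z := by
      intro O hO hle z
      subst hO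
      have := (hW i).isLocalization_basicOpen (a i)
      obtain ⟨⟨b, ⟨_, n, rfl⟩⟩, hb⟩ := IsLocalization.surj (Submonoid.powers (a i)) z
      refine ⟨n, b, ?_⟩
      rw [← map_pow, mul_comm]
      exact hb.symm
    exact this _ (hloc i) _ _
  choose n₀ b hb using hnum
  let n := Finset.univ.sup n₀
  let σ : ∀ i : F, Γ(CohB1.tensorPow M n, W i) := fun i => (a i ^ (n - n₀ i) * b i) • pw M (e i) n
  have hσ : ∀ i : F, res _ (inf_le_right : locus s₀ ⊓ W i ≤ W i) (σ i) =
      rres (inf_le_left : locus s₀ ⊓ W i ≤ _) f •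
        res _ (inf_le_right : locus s₀ ⊓ W i ≤ W i) (res _ (le_top : W i ≤ ⊤) (pw M s₀ n)) := by
    intro i
    rw [res_pw le_top s₀ n, ha i, pw_smul, res_smul, res_smul, smul_smul, map_mul, map_pow, map_pow, hb i,
      ← mul_assoc, ← pow_add, Nat.sub_add_cancel (Finset.le_sup (f := n₀) (Finset.mem_univ i)), mul_comm]
  have hP : PicF.IsInvertible (CohB1.tensorPow M n) := AmpleLib.isInvertible_tensorPow hM n
  obtain ⟨t, ht⟩ := exists_glue (CohB1.tensorPow M n) (fun i : F => (le_top : W i ≤ ⊤)) hcov σ fun i j => by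
    refine sec_eq_of_dense hP hU ?_
    have hi := congrArg (res _ (le_inf inf_le_right (inf_le_left.trans inf_le_left) :
      (W i ⊓ W j) ⊓ locus s₀ ≤ locus s₀ ⊓ W i)) (hσ i)
    have hj := congrArg (res _ (le_inf inf_le_right (inf_le_left.trans inf_le_right) :
      (W i ⊓ W j) ⊓ locus s₀ ≤ locus s₀ ⊓ W j)) (hσ j)
    simp only [σ, res_smul, QCoh.res_res, rres_rres] at hi hj ⊢
    rw [hi, hj]
  refine ⟨n, t, ?_⟩
  unfold Rel
  refine TopCat.Sheaf.eq_of_locally_eq' ⟨_, (CohB1.tensorPow M n).isSheaf⟩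
    (fun i : F => locus s₀ ⊓ W i) (locus s₀) (fun _ => homOfLE inf_le_left)
    (fun x hx => by
      obtain ⟨i, hi⟩ := Opens.mem_iSup.1 (hcov (trivial : x ∈ (⊤ : X.Opens)))
      exact Opens.mem_iSup.2 ⟨i, hx, hi⟩) _ _ fun i => ?_
  show res _ (inf_le_left : locus s₀ ⊓ W i ≤ _) (res _ le_top t) =
    res _ (inf_le_left : locus s₀ ⊓ W i ≤ _) (f • res _ le_top (pw M s₀ n))
  have h1 := hσ i
  rw [← ht i, res_res, res_res] at h1
  rw [res_smul, res_res, res_res, h1]

section Divide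

variable (D : X.IdealSheafData)

/-- The multiplication `L ⊗ I → L`. -/
abbrev θ (L : X.Modules) : CohB1.tensorMod L (ClSub.idealMod D) ⟶ L :=
  mulθ (ClSub.idealModι D) L

theorem θ_tmul (L : X.Modules) {V : X.Opens} (e : Γ(L, V)) (g : Γ(ClSub.idealMod D, V)) :
    (θ D L).app V (tmul e g) = idealSect D V g • e :=
  mulθ_tmul (ClSub.idealModι D) L e g

theorem idealSect_smul' {V : X.Opens} (a : Γ(X, V)) (g : Γ(ClSub.idealMod D, V)) :
    idealSect D V (a • g) = a * idealSect D V g :=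
  (ClSub.idealModι D).app_smul a g

theorem eq_zero_of_mul_gen {V : X.Opens} {g : Γ(ClSub.idealMod D, V)}
    (hg : IsGen (ClSub.idealMod D) V g) {c : Γ(X, V)} (h : c * idealSect D V g = 0) : c = 0 := by
  rw [← idealSect_smul'] at h
  have h1 : c • g = 0 := Omega.Stalks.idealSect_injective D V (h.trans (map_zero _).symm)
  refine hg.injective le_rfl ?_
  rw [res_self, zero_smul]
  exact h1

theorem θ_injective {L : X.Modules} (hL : PicF.IsInvertible L) (hD : PicF.IsInvertible (ClSub.idealMod D))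
    (V : X.Opens) : Function.Injective ((θ D L).app V) := by
  refine (injective_iff_map_eq_zero _).2 fun w hw => ?_
  have key : ∀ x : V, ∃ W : X.Opens, ∃ hW : W ≤ V, (x : X) ∈ W ∧ res _ hW w = 0 := fun x => by
    obtain ⟨W₁, e, hx₁, he⟩ := exists_isGen hL (x : X)
    obtain ⟨W₂, g, hx₂, hg⟩ := exists_isGen hD (x : X)
    let W := W₁ ⊓ W₂ ⊓ V
    have g₁ := he.restrict ((inf_le_left.trans inf_le_left : W ≤ W₁))
    have g₂ := hg.restrict ((inf_le_left.trans inf_le_right : W ≤ W₂))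
    refine ⟨W, inf_le_right, ⟨⟨hx₁, hx₂⟩, x.2⟩, ?_⟩
    obtain ⟨c, hc, -⟩ := (isGen_tmul g₁ g₂).exists_eq le_rfl (res _ (inf_le_right : W ≤ V) w)
    rw [res_self] at hc
    have h := congrArg ((θ D L).app W) hc
    rw [app_res, hw, map_zero, Scheme.Modules.Hom.app_smul, θ_tmul, smul_smul] at h
    have h' : c * idealSect D W (res _ (inf_le_left.trans inf_le_right : W ≤ W₂) g) = 0 := by
      refine g₁.injective le_rfl ?_
      rw [res_self, zero_smul]
      exact h.symm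
    rw [hc, eq_zero_of_mul_gen D g₂ h', zero_smul]
  choose W hWV hxW hw0 using key
  refine TopCat.Sheaf.eq_of_locally_eq' ⟨_, (CohB1.tensorMod L (ClSub.idealMod D)).isSheaf⟩
    W V (fun x => homOfLE (hWV x)) (fun x hx => Opens.mem_iSup.2 ⟨⟨x, hx⟩, hxW _⟩) w 0 fun x => ?_
  exact (hw0 x).trans (map_zero _).symm

end Divide

/-- A function vanishing at `η` lies in the ideal of its closure. -/
theorem mem_ptIdeal {η : X} (W : X.affineOpens) {a : Γ(X, W.1)} (h : η ∉ X.basicOpen a) :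
    a ∈ (IntMult.ptIdeal η).ideal W := by
  rw [IntMult.ptIdeal, Scheme.IdealSheafData.vanishingIdeal_ideal, PrimeSpectrum.mem_vanishingIdeal]
  intro p hp
  by_contra hpa
  have h1 : W.2.fromSpec p ∈ X.basicOpen a := by
    show p ∈ W.2.fromSpec ⁻¹ᵁ X.basicOpen a
    rw [W.2.fromSpec_preimage_basicOpen]
    exact hpa
  exact h ((specializes_iff_mem_closure.2 hp).mem_open (X.basicOpen a).2 h1)

theorem not_mem_basicOpen_sect {η : X} {V : X.Opens} (g : Γ(ClSub.idealMod (IntMult.ptIdeal η), V)) :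
    η ∉ X.basicOpen (idealSect (IntMult.ptIdeal η) V g) := by
  let D := IntMult.ptIdeal η
  intro hη
  obtain ⟨z, hz⟩ : η ∈ Set.range D.subschemeι := by
    rw [D.range_subschemeι, show D = Scheme.IdealSheafData.vanishingIdeal
      (⟨closure {η}, isClosed_closure⟩ : Closeds X) from rfl, Scheme.IdealSheafData.coe_support_vanishingIdeal]
    exact subset_closure rfl
  have h1 : z ∈ D.subschemeι ⁻¹ᵁ X.basicOpen (idealSect D V g) := by
    refine (?_ : D.subschemeι z ∈ X.basicOpen (idealSect D V g))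
    rw [hz]; exact hη
  rw [Scheme.preimage_basicOpen, IdealSh.IdealMod.app_sect, D.subscheme.basicOpen_zero] at h1
  exact h1

/-- A section vanishing along the closure of `η` is divisible by its equation. -/
theorem exists_divide {η : X} (hD : PicF.IsInvertible (ClSub.idealMod (IntMult.ptIdeal η))) {L : X.Modules}
    (hL : PicF.IsInvertible L) {s : Γ(L, ⊤)} (hs : η ∉ locus s) :
    ∃ s' : Γ(CohB1.tensorMod L (ClSub.idealMod (IntMult.ptIdeal η)), ⊤),
      (θ (IntMult.ptIdeal η) L).app ⊤ s' = s := by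
  set D := IntMult.ptIdeal η
  have key : ∀ x : X, ∃ W : X.Opens, x ∈ W ∧ ∃ τ : Γ(CohB1.tensorMod L (ClSub.idealMod D), W),
      (θ D L).app W τ = res L le_top s := fun x => by
    obtain ⟨W₁, e, hx₁, he⟩ := exists_isGen hL x
    obtain ⟨U₀, hx₀, f, hf, hspan⟩ := IdealSh.IdealMod.isEffCartierIdeal_of_isInvertible D hD x
    obtain ⟨T, hxT, hT⟩ := Comap.exists_affine_le x (W₁ ⊓ U₀.1) ⟨hx₁, hx₀⟩
    have g₁ := he.restrict (hT.trans inf_le_left)
    obtain ⟨a, ha, -⟩ := g₁.exists_eq le_rfl (res L (le_top : T.1 ≤ ⊤) s)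
    rw [res_self] at ha
    have hηa : η ∉ X.basicOpen a := fun h => hs (by
      rw [← AmpleLib.locus_inf le_top g₁ s ha] at h
      exact h.1)
    have hmem := mem_ptIdeal T hηa
    rw [EffCartier.restrict_eq (hT.trans inf_le_right) hspan, Ideal.mem_span_singleton'] at hmem
    obtain ⟨b, hb⟩ := hmem
    obtain ⟨g, hg⟩ := IdealSh.IdealMod.exists_sect D U₀.1 f
      ((IdealSh.IdealMod.mem_ideal_iff D U₀ f).mp (hspan ▸ Ideal.subset_span rfl))
    refine ⟨T.1, hxT, b • tmul (res L (hT.trans inf_le_left) e) (res _ (hT.trans inf_le_right) g), ?_⟩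
    rw [Scheme.Modules.Hom.app_smul, θ_tmul, smul_smul, ha]
    refine congrArg (· • _) (Eq.trans ?_ hb)
    refine congrArg (b * ·) ?_
    rw [← hg]
    exact Omega.Stalks.idealSect_map D _ g
  choose W hxW τ hτ using key
  obtain ⟨s', hs'⟩ := exists_glue _ (fun x => (le_top : W x ≤ ⊤))
    (fun x _ => Opens.mem_iSup.2 ⟨x, hxW x⟩) τ fun x y => by
      refine θ_injective D hL hD _ ?_
      rw [app_res, app_res, hτ, hτ, res_res, res_res]
  refine ⟨s', TopCat.Sheaf.eq_of_locally_eq' ⟨_, L.isSheaf⟩ W ⊤ (fun x => homOfLE le_top)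
    (fun x _ => Opens.mem_iSup.2 ⟨x, hxW x⟩) _ _ fun x => ?_⟩
  show res L (le_top : W x ≤ ⊤) _ = res L le_top s
  rw [← app_res, hs', hτ]

end Groth.Agent.SurfProj
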